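import Groth.Agent.H10Coh.FamHom.Functor
import Groth.Agent.H06EGA9.StructureStalk
import Groth.Agent.H06EGA9.FlatFibre
import Groth.Agent.H10Coh.Stab.SectionFlat
import Groth.Agent.H10Coh.SheafHom.Flat
import Groth.Agent.H06EGA9.CMAffineSpace

/-!
# Homomorphisms detected on a section: the infinitesimal step
-/

set_option autoImplicit false
set_option linter.style.haveILetI false
set_option linter.unusedSectionVars false
set_option backward.isDefEq.respectTransparency.types false

noncomputable section

universe u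

open CategoryTheory CategoryTheory.Limits AlgebraicGeometry Opposite TopologicalSpace

namespace Groth.Agent.H10Coh.FamHom

open Groth.Agent.H06Mod Groth.Agent.H16Derived.KFlat.Stalk IsLocalRing

variable {k : Type u} [Field k] {X S Xt : Scheme.{u}} {f : X ⟶ S} {g : Xt ⟶ X}
  {p : Xt ⟶ Spec (CommRingCat.of k)} {t : Spec (CommRingCat.of k) ⟶ S} (h : IsPullback g p f t)
  (ξ : S ⟶ X) (hξ : ξ ≫ f = 𝟙 S) (ξt : Spec (CommRingCat.of k) ⟶ Xt) (hξt : ξt ≫ g = t ≫ ξ)
  (E F : X.Modules)

/-- Maps to `f^*M ⊗ F` vanishing along the section vanish. -/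
def Detects (M : S.Modules) : Prop :=
  ∀ ψ : E ⟶ (fam f F).obj M, (Scheme.Modules.pullback ξ).map ψ = 0 → ψ = 0

variable {ξ E F}

theorem Detects.of_iso {M N : S.Modules} (e : M ≅ N) (hM : Detects (f := f) ξ E F M) :
    Detects (f := f) ξ E F N := fun ψ hψ => by
  have := hM (ψ ≫ (fam f F).map e.inv) (by rw [Functor.map_comp, hψ, zero_comp])
  rwa [Preadditive.IsIso.comp_right_eq_zero] at this

theorem Detects.of_isZero {M : S.Modules} (hM : IsZero M) : Detects (f := f) ξ E F M :=
  fun _ _ => ((fam f F).map_isZero hM).eq_of_tgt _ _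

include hξ in
theorem Detects.of_shortExact (hF : FlatMod.IsFlatOver f F)
    (hF' : FlatMod.IsFinLocFree ((Scheme.Modules.pullback ξ).obj F)) {T : ShortComplex S.Modules}
    (hT : T.ShortExact) (h₁ : Detects (f := f) ξ E F T.X₁) (h₃ : Detects (f := f) ξ E F T.X₃) :
    Detects (f := f) ξ E F T.X₂ := by
  intro ψ hψ
  haveI := hT.mono_f
  haveI := preservesFiniteLimits_fam f F hF
  have h3 := h₃ (ψ ≫ (fam f F).map T.g) (by rw [Functor.map_comp, hψ, zero_comp])
  haveI : Mono (T.map (fam f F)).f := inferInstanceAs (Mono ((fam f F).map T.f))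
  obtain ⟨ψ', hψ'⟩ : ∃ ψ' : E ⟶ (fam f F).obj T.X₁, ψ' ≫ (fam f F).map T.f = ψ :=
    ⟨(exact_fam f F hF hT.exact).lift ψ h3, (exact_fam f F hF hT.exact).lift_f ψ h3⟩
  haveI := preservesFiniteLimits_fam (𝟙 S) ((Scheme.Modules.pullback ξ).obj F)
    (H10Coh.SheafHom.isFlatOver_of_isFinLocFree (𝟙 S) _ hF')
  haveI : PreservesFiniteLimits (Scheme.Modules.pullback (𝟙 S)) :=
    preservesFiniteLimits_of_natIso (Scheme.Modules.pullbackId S).symm
  haveI : Mono ((Scheme.Modules.pullback ξ).map ((fam f F).map T.f)) :=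
    ((MorphismProperty.monomorphisms _).arrow_mk_iso_iff
      (((Functor.mapArrowFunctor _ _).mapIso
        (pullFamIso f F (g := ξ) (p := 𝟙 S) (t := 𝟙 S) (hξ.trans (Category.id_comp _).symm))).app
          (Arrow.mk T.f))).2
      (inferInstanceAs (Mono ((fam (𝟙 S) ((Scheme.Modules.pullback ξ).obj F)).map
        ((Scheme.Modules.pullback (𝟙 S)).map T.f))))
  have h1 : (Scheme.Modules.pullback ξ).map ψ' = 0 := by
    rw [← cancel_mono ((Scheme.Modules.pullback ξ).map ((fam f F).map T.f)), ← Functor.map_comp, hψ', hψ,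
      zero_comp]
  rw [← hψ', h₁ ψ' h1, zero_comp]

variable [IsClosedImmersion t] (sS : S ⟶ Spec (CommRingCat.of k)) (ht : t ≫ sS = 𝟙 (Spec (CommRingCat.of k)))

/-- The point of `t`. -/
local notation "pt" => t.base (IsLocalRing.closedPoint k)

include h hξt ht in
theorem detects_simple (hF : FlatMod.IsFlatOver f F)
    (hinj : ∀ ψ : (Scheme.Modules.pullback g).obj E ⟶ (Scheme.Modules.pullback g).obj F,
      (Scheme.Modules.pullback ξt).map ψ = 0 → ψ = 0)
    (s : S) (hs : t.base (IsLocalRing.closedPoint k) = s)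
    (N : Type u) [AddCommGroup N] [Module (S.presheaf.stalk s) N]
    [IsSimpleModule (S.presheaf.stalk s) N] : Detects (f := f) ξ E F (sky s N) := by
  haveI : IsClosedImmersion g := MorphismProperty.of_isPullback h.flip ‹_›
  have hrange : Set.range t.base = {s} := by
    rw [← hs]
    ext y
    exact ⟨fun ⟨z, hz⟩ => hz ▸ congrArg t.base (Subsingleton.elim z _), fun hy => ⟨_, hy.symm⟩⟩
  have hcl : IsClosed ({s} : Set S) := hrange ▸ t.isClosedEmbedding.isClosed_range
  obtain ⟨m, hm, ⟨e⟩⟩ := (isSimpleModule_iff_quot_maximal).1 (inferInstance : IsSimpleModule (S.presheaf.stalk s) N)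
  obtain rfl := IsLocalRing.eq_maximalIdeal hm
  let σ := LinearEquiv.ofBijective (LinearMap.toSpanSingleton (S.presheaf.stalk s) _ (H06EGA9.oneStalk s))
    (H06EGA9.bijective_smul_oneStalk s)
  let ψ₀ : (Coh.structureModule S).presheaf.stalk s →ₗ[S.presheaf.stalk s] N :=
    e.symm.toLinearMap ∘ₗ (maximalIdeal (S.presheaf.stalk s)).mkQ ∘ₗ σ.symm.toLinearMap
  have hψ₀ : Function.Surjective ψ₀ :=
    e.symm.surjective.comp ((Submodule.mkQ_surjective _).comp σ.symm.surjective)
  have hker : LinearMap.ker ψ₀ ≤ maximalIdeal (S.presheaf.stalk s) • ⊤ := by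
    intro v hv
    have h1 : σ.symm v ∈ maximalIdeal (S.presheaf.stalk s) :=
      (Submodule.Quotient.mk_eq_zero _).1 (e.symm.map_eq_zero_iff.1 hv)
    rw [← σ.apply_symm_apply v]
    exact Submodule.smul_mem_smul h1 trivial
  have hmN : ∀ c ∈ maximalIdeal (S.presheaf.stalk s), ∀ n : N, c • n = 0 := by
    intro c hc n
    obtain ⟨q, rfl⟩ := e.symm.surjective n
    obtain ⟨a, rfl⟩ := Submodule.Quotient.mk_surjective _ q
    rw [← map_smul, ← Submodule.Quotient.mk_smul]
    exact (congrArg e.symm ((Submodule.Quotient.mk_eq_zero _).2 (Ideal.mul_mem_right a _ hc))).trans (map_zero _)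
  let q := homOfStalk ψ₀
  haveI hq : Epi q := SkyMod.epi_homOfStalk s hcl ψ₀ hψ₀
  have hT : (ShortComplex.mk (kernel.ι q) q (kernel.condition q)).ShortExact :=
    { exact := ShortComplex.exact_kernel q }
  let G := fam f F
  let M := G.obj (sky s N)
  -- the sheaf lives on the fibre
  haveI : IsIso ((H16Derived.ProjFormula.adj g).unit.app M) := by
    refine H16Derived.ProjFormula.isIso_unit_of_killed g ⟨fun x r hr a => ?_, fun y hy => ?_⟩
    · obtain ⟨s', φ, hφ, ht'⟩ := H10Coh.Stab.exists_residue_iso_of_rational sS t ht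
      haveI := hφ
      have hP : IsPullback g (p ≫ Spec.map φ) f (S.fromSpecResidueField s') :=
        h.of_iso (Iso.refl _) (Iso.refl _) (asIso (Spec.map φ)) (Iso.refl _) (by simp) (by simp) (by simp)
          (by simp [ht'])
      have hk := (H06EGA9.fibre_stalk f hP x (g.base x) rfl).2
      simp only [TopCat.Presheaf.stalkSpecializes_refl, Category.id_comp] at hk
      have hr' : r ∈ Ideal.map (f.stalkMap (g.base x)).hom (maximalIdeal _) := hk ▸ hr
      have hfs : f.base (g.base x) = s := by
        rw [← Scheme.Hom.comp_apply, h.w, Scheme.Hom.comp_apply, ← hs]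
        exact congrArg t.base (Subsingleton.elim _ _)
      have hker' : ∀ r ∈ Ideal.map (f.stalkMap (g.base x)).hom (maximalIdeal _), ∀ b, r • b = (0 : M.presheaf.stalk (g.base x)) := by
        intro r hr b
        refine Submodule.span_induction ?_ (zero_smul _ _) ?_ ?_ hr
        · rintro _ ⟨c, hc, rfl⟩
          subst hfs
          exact smul_fam_eq_zero f F (g.base x)
            (fun v => SkyMod.smul_stalk_sky_eq_zero _ (hmN c hc) v) b
        · intro a a' _ _ ha ha'; rw [add_smul, ha, ha', add_zero]
        · intro a a' _ ha; rw [smul_eq_mul, mul_smul, ha, smul_zero]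
      exact hker' r hr' a
    · have hne : f.base y ≠ s := fun he => hy (by
        obtain ⟨z, hz, -⟩ := Scheme.exists_preimage_of_isPullback h y (IsLocalRing.closedPoint k) (by rw [hs, he])
        exact ⟨z, hz⟩)
      haveI := SkyMod.subsingleton_stalk_sky s N hcl hne
      refine subsingleton_of_forall_eq 0 fun b => ?_
      have := smul_fam_eq_zero f F y (c := 1) (fun v => Subsingleton.elim _ _) b
      rwa [map_one, one_smul] at this
  -- on the fibre it is the restriction of `F`
  haveI := (Scheme.Modules.pullbackPushforwardAdjunction g).isLeftAdjoint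
  haveI := preservesFiniteColimits_fam f F hF
  haveI : PreservesFiniteColimits (Scheme.Modules.pullback g) :=
    @PreservesColimitsOfSize.preservesFiniteColimits.{0, 0} _ _ _ _ _
      (Scheme.Modules.pullbackPushforwardAdjunction g).leftAdjoint_preservesColimits
  have hta : (Scheme.Modules.pullback t).map (kernel.ι q) = 0 := by
    refine H29Omega.eq_zero_of_stalkLin _ fun z v => ?_
    obtain rfl := hs
    obtain rfl : z = IsLocalRing.closedPoint k := Subsingleton.elim _ _
    have hle := range_pullback_le t (IsLocalRing.closedPoint k) (kernel.ι q) (maximalIdeal _)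
      ((SkyMod.range_stalk_le_ker _ ψ₀ (kernel.ι q) (kernel.condition q)).trans hker)
    have hbot : (maximalIdeal (S.presheaf.stalk (t.base (IsLocalRing.closedPoint k)))).map
        (t.stalkMap (IsLocalRing.closedPoint k)).hom = ⊥ := by
      have hle : (maximalIdeal (S.presheaf.stalk (t.base (IsLocalRing.closedPoint k)))).map
          (t.stalkMap (IsLocalRing.closedPoint k)).hom ≤ maximalIdeal _ :=
        ((local_hom_TFAE (t.stalkMap (IsLocalRing.closedPoint k)).hom).out 0 2).1
          (inferInstance : IsLocalHom (t.stalkMap (IsLocalRing.closedPoint k)).hom)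
      have hfield : IsField ((Spec (CommRingCat.of k)).presheaf.stalk (IsLocalRing.closedPoint k)) :=
        H06EGA9.isField_stalk_spec_of_isField (Field.toIsField k) _
      exact le_bot_iff.1 (hle.trans (le_of_eq (isField_iff_maximalIdeal_eq.1 hfield)))
    rw [hbot, Submodule.bot_smul] at hle
    exact hle ⟨v, rfl⟩
  have hga : (Scheme.Modules.pullback g).map (G.map (kernel.ι q)) = 0 := by
    have hn := (pullFamIso f F (g := g) (p := p) (t := t) h.w).hom.naturality (kernel.ι q)
    rw [← cancel_mono ((pullFamIso f F (g := g) (p := p) (t := t) h.w).hom.app _)]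
    refine hn.trans ?_
    show _ ≫ (fam p _).map ((Scheme.Modules.pullback t).map (kernel.ι q)) = _
    rw [hta, Functor.map_zero, comp_zero, zero_comp]
  haveI : IsIso ((Scheme.Modules.pullback g).map (G.map q)) := by
    haveI := hT.epi_g
    haveI : PreservesFiniteLimits G := preservesFiniteLimits_fam f F hF
    have hex : (((ShortComplex.mk (kernel.ι q) q (kernel.condition q)).map G).map
        (Scheme.Modules.pullback g)).Exact :=
      haveI : Epi ((ShortComplex.mk (kernel.ι q) q (kernel.condition q)).map G).g := (hT.map_of_exact G).epi_g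
      (hT.map_of_exact G).exact.map_of_epi_of_preservesCokernel (Scheme.Modules.pullback g) inferInstance inferInstance
    haveI : Epi (G.map q) := (hT.map_of_exact G).epi_g
    haveI : Mono ((Scheme.Modules.pullback g).map (G.map q)) :=
      (ShortComplex.exact_iff_mono _ hga).1 hex
    exact isIso_of_mono_of_epi _
  let θ : (Scheme.Modules.pullback g).obj M ≅ (Scheme.Modules.pullback g).obj F :=
    (@asIso _ _ _ _ ((Scheme.Modules.pullback g).map (G.map q)) inferInstance).symm ≪≫
      (Scheme.Modules.pullback g).mapIso (unitIso f F)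
  intro ψ hψ
  have h0 : (Scheme.Modules.pullback g).map ψ = 0 := by
    have hz := hinj ((Scheme.Modules.pullback g).map ψ ≫ θ.hom) ?_
    · rwa [Preadditive.IsIso.comp_right_eq_zero] at hz
    rw [Functor.map_comp]
    let σ' : Scheme.Modules.pullback g ⋙ Scheme.Modules.pullback ξt ≅
        Scheme.Modules.pullback ξ ⋙ Scheme.Modules.pullback t :=
      Scheme.Modules.pullbackComp ξt g ≪≫ Scheme.Modules.pullbackCongr hξt ≪≫
        (Scheme.Modules.pullbackComp t ξ).symm
    have h2 : (Scheme.Modules.pullback ξt).map ((Scheme.Modules.pullback g).map ψ) = 0 := by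
      rw [← cancel_mono (σ'.hom.app M)]
      refine (σ'.hom.naturality ψ).trans ?_
      show _ ≫ (Scheme.Modules.pullback t).map ((Scheme.Modules.pullback ξ).map ψ) = _
      rw [hψ, Functor.map_zero, comp_zero, zero_comp]
    rw [h2, zero_comp]
  rw [← cancel_mono ((H16Derived.ProjFormula.adj g).unit.app M), zero_comp]
  refine ((H16Derived.ProjFormula.adj g).unit.naturality ψ).trans ?_
  show _ ≫ (Scheme.Modules.pushforward g).map ((Scheme.Modules.pullback g).map ψ) = _
  rw [h0, Functor.map_zero, comp_zero]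

include h hξ hξt ht in
theorem detects_of_finiteLength (hF : FlatMod.IsFlatOver f F)
    (hF' : FlatMod.IsFinLocFree ((Scheme.Modules.pullback ξ).obj F))
    (hinj : ∀ ψ : (Scheme.Modules.pullback g).obj E ⟶ (Scheme.Modules.pullback g).obj F,
      (Scheme.Modules.pullback ξt).map ψ = 0 → ψ = 0)
    (s : S) (hs : t.base (IsLocalRing.closedPoint k) = s)
    (V : Type u) [AddCommGroup V] [Module (S.presheaf.stalk s) V]
    (hV : IsFiniteLength (S.presheaf.stalk s) V) : Detects (f := f) ξ E F (sky s V) := by
  induction hV with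
  | @of_subsingleton M _ _ _ => exact Detects.of_isZero (SkyMod.isZero_sky s M)
  | @of_simple_quotient M _ _ N _ _ ih =>
    obtain ⟨w, hse⟩ := SkyMod.exists_shortExact_sky s N.subtype N.mkQ N.injective_subtype N.mkQ_surjective
      (LinearMap.exact_subtype_mkQ N)
    have h₃ : Detects (f := f) ξ E F (sky s (M ⧸ N)) := detects_simple h ξt hξt sS ht hF hinj s hs (M ⧸ N)
    exact Detects.of_shortExact (T := ShortComplex.mk (skyMap N.subtype) (skyMap N.mkQ) w) hξ hF hF' hse ih h₃

end Groth.Agent.H10Coh.FamHom
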