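import Groth.Agent.H8Props.AmpleBatch
import Groth.Agent.H11Ample.Converse
import Groth.Agent.H11Proj.ProperQProj
import Groth.Agent.H11Ample.AmpleOn

/-!
# `O(1)` on the fibre of a closed subscheme of projective space
-/

set_option autoImplicit false
set_option linter.style.haveILetI false
set_option backward.isDefEq.respectTransparency.types false

noncomputable section

universe u

open CategoryTheory CategoryTheory.Limits AlgebraicGeometry CohB1

namespace Groth.Agent.H10Coh.FamHom

theorem isAmple_fibre_twistOver {A : Type u} [CommRing A] {S X Xt : Scheme.{u}} (n : ℕ)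
    (i : X ⟶ CohB1.ProjSpaceOver n S) [IsClosedImmersion i] {t : Spec (CommRingCat.of A) ⟶ S} [IsClosedImmersion t]
    {g : Xt ⟶ X} {p : Xt ⟶ Spec (CommRingCat.of A)}
    (h : IsPullback g p (i ≫ (CohB1.ProjSpaceOver n S ↘ S)) t) :
    CohB1.IsAmple ((Scheme.Modules.pullback (g ≫ i)).obj (Twist.twistOver n S 1)) := by
  haveI : IsClosedImmersion g := MorphismProperty.of_isPullback h.flip ‹_›
  haveI : IsProper (CohB1.ProjSpaceOver n S ↘ S) := H27Weil.isProper_toBase n S
  let P₁ := Spec (CommRingCat.of A)
  let fS := pullback.fst (ProjSpace.toSpec n (ULift.{u} ℤ)) (specULiftZIsTerminal.from S)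
  let fA := pullback.fst (ProjSpace.toSpec n (ULift.{u} ℤ)) (specULiftZIsTerminal.from P₁)
  let sA := ProjSpaceOver.toBase n P₁
  let m : ProjSpaceOver n P₁ ⟶ ProjSpaceOver n S :=
    pullback.lift fA (sA ≫ t) (by
      rw [Category.assoc, specULiftZIsTerminal.hom_ext (t ≫ specULiftZIsTerminal.from S) (specULiftZIsTerminal.from P₁)]
      exact pullback.condition)
  let q : Xt ⟶ ProjSpaceOver n P₁ :=
    pullback.lift (g ≫ i ≫ fS) p (specULiftZIsTerminal.hom_ext _ _)
  have hqm : q ≫ m = g ≫ i := by
    apply pullback.hom_ext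
    · refine (Category.assoc _ _ _).trans ?_
      exact (congrArg (q ≫ ·) (pullback.lift_fst _ _ _)).trans ((pullback.lift_fst _ _ _).trans (Category.assoc _ _ _).symm)
    · refine (Category.assoc _ _ _).trans ?_
      refine (congrArg (q ≫ ·) (pullback.lift_snd _ _ _)).trans ?_
      exact ((Category.assoc _ _ _).symm.trans (congrArg (· ≫ t) (pullback.lift_snd _ _ _))).trans
        (h.w.symm.trans (Category.assoc _ _ _).symm)
  haveI : IsSeparated (m : ProjSpaceOver n P₁ ⟶ ProjSpaceOver n S) := by
    haveI : IsProper sA := H27Weil.isProper_toBase n P₁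
    haveI : IsSeparated (m ≫ (ProjSpaceOver n S ↘ S)) := by
      rw [show m ≫ (ProjSpaceOver n S ↘ S) = sA ≫ t from pullback.lift_snd _ _ _]
      infer_instance
    exact IsSeparated.of_comp m (ProjSpaceOver n S ↘ S)
  haveI : IsClosedImmersion (q ≫ m) := by rw [hqm]; infer_instance
  haveI : IsClosedImmersion q := IsClosedImmersion.of_comp q m
  obtain ⟨hc, hA⟩ := H11Ample.isAmple_twistOver (Y := P₁) n
  haveI := hc
  haveI : CompactSpace Xt := QuasiCompact.compactSpace_of_compactSpace q
  refine H11Ample.isAmple_of_iso ?_ (H8Props.Ample.isAmple_pullback_of_isEmbedding q q.isClosedEmbedding.isEmbedding hA)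
  refine (Scheme.Modules.pullbackComp q fA).app _ ≪≫ (Scheme.Modules.pullbackCongr ?_).app _ ≪≫
    ((Scheme.Modules.pullbackComp (g ≫ i) fS).app _).symm
  exact (pullback.lift_fst _ _ _).trans (Category.assoc _ _ _).symm

end Groth.Agent.H10Coh.FamHom
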