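import Groth.Agent.H17.FourierMukai.FlatKernel
import Groth.Agent.H16Derived.RelTensor.Mu
import Groth.Agent.H10Coh.SheafHom.Pullback
import Groth.Agent.H16Derived.ProjFormula.ClosedImm
import Groth.Agent.H10Coh.TensorBasics
import Groth.Agent.H10Coh.SkyMod.Basic

/-!
# The functor `M ↦ f^*M ⊗ F`
-/

set_option autoImplicit false
set_option linter.style.haveILetI false
set_option linter.unusedSectionVars false
set_option backward.isDefEq.respectTransparency.types false

noncomputable section

universe u

open CategoryTheory CategoryTheory.Limits AlgebraicGeometry Opposite TopologicalSpace TensorProduct MonoidalCategory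

namespace Groth.Agent.H10Coh.FamHom

open Groth.Agent.H06Mod Groth.Agent.H16Derived.KFlat.Stalk

attribute [local instance] Groth.Agent.H06Mod.stalkAlgebra

variable {X S : Scheme.{u}} (f : X ⟶ S) (F : X.Modules)

/-- `M ↦ f^*M ⊗ F`. -/
abbrev fam : S.Modules ⥤ X.Modules := Scheme.Modules.pullback f ⋙ DCoh.tensorRightMod F

/-- `f^*O ⊗ F ≅ F`. -/
def unitIso : (fam f F).obj (Coh.structureModule S) ≅ F :=
  (H16Derived.KFlat.Stalk.tensorRightModIso F).app _ ≪≫
    PicGrp.tensorModIso (H16Derived.KFlat.Stalk.structurePullbackIso f) (Iso.refl F) ≪≫ H10Coh.Tw.leftUnitIso F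

theorem exact_fam (hF : FlatMod.IsFlatOver f F) {T : ShortComplex S.Modules} (hT : T.Exact) :
    (T.map (fam f F)).Exact :=
  (exact_iff _).2 fun x => H17.FourierMukai.exact_stalk_pullback_tensor f F x (hF x) T hT

theorem preservesFiniteLimits_fam (hF : FlatMod.IsFlatOver f F) : PreservesFiniteLimits (fam f F) :=
  (((Functor.exact_tfae (fam f F)).out 1 3 :
    _ ↔ PreservesFiniteLimits _ ∧ PreservesFiniteColimits _).mp fun _ hT => exact_fam f F hF hT).1

theorem preservesFiniteColimits_fam (hF : FlatMod.IsFlatOver f F) : PreservesFiniteColimits (fam f F) :=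
  (((Functor.exact_tfae (fam f F)).out 1 3 :
    _ ↔ PreservesFiniteLimits _ ∧ PreservesFiniteColimits _).mp fun _ hT => exact_fam f F hF hT).2

variable (x : X)

theorem range_pullback_le {M N : S.Modules} (a : M ⟶ N) (I : Ideal (S.presheaf.stalk (f.base x)))
    (ha : LinearMap.range (stalkLin a (f.base x)) ≤ I • ⊤) :
    LinearMap.range (stalkLin ((Scheme.Modules.pullback f).map a) x) ≤ I.map (f.stalkMap x).hom • ⊤ := by
  rintro _ ⟨w, rfl⟩
  obtain ⟨z, rfl⟩ := (pullStalkLin_bijective f M x).2 w
  induction z using TensorProduct.induction_on with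
  | zero => simp
  | add a b ha hb => rw [map_add, map_add]; exact add_mem ha hb
  | tmul r m =>
    rw [pullStalkLin_tmul, map_smul]
    refine Submodule.smul_mem _ r ?_
    rw [show stalkLin ((Scheme.Modules.pullback f).map a) x (pullStalk f M x m) =
      pullStalk f N x (stalkLin a (f.base x) m) from pullStalk_naturality f M x a m]
    have hv := ha ⟨m, rfl⟩
    generalize stalkLin a (f.base x) m = v at hv
    refine Submodule.smul_induction_on hv (fun c hc v _ => ?_) (fun v w hv hw => ?_)
    · rw [pullStalk_smul]
      exact Submodule.smul_mem_smul (Ideal.mem_map_of_mem _ hc) trivial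
    · rw [map_add]; exact add_mem hv hw

theorem range_fam_le {M N : S.Modules} (a : M ⟶ N) (I : Ideal (S.presheaf.stalk (f.base x)))
    (ha : LinearMap.range (stalkLin a (f.base x)) ≤ I • ⊤) :
    LinearMap.range (stalkLin ((fam f F).map a) x) ≤ I.map (f.stalkMap x).hom • ⊤ := by
  let J := I.map (f.stalkMap x).hom
  let P : S.Modules → X.Modules := (Scheme.Modules.pullback f).obj
  let e : ∀ K : S.Modules, ((fam f F).obj K).presheaf.stalk x ≃ₗ[X.presheaf.stalk x]
      (P K).presheaf.stalk x ⊗[X.presheaf.stalk x] F.presheaf.stalk x := fun K =>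
    ((H16Derived.TorTest.tensorStalkIso x F).app (P K)).toLinearEquiv
  rintro _ ⟨w, rfl⟩
  have hnat : e N (stalkLin ((fam f F).map a) x w) =
      (stalkLin ((Scheme.Modules.pullback f).map a) x).rTensor (F.presheaf.stalk x) (e M w) :=
    congr($((H16Derived.TorTest.tensorStalkIso x F).hom.naturality ((Scheme.Modules.pullback f).map a)) w)
  suffices h : e N (stalkLin ((fam f F).map a) x w) ∈ (J • ⊤ : Submodule _ _) by
    have h2 := Submodule.mem_map_of_mem (f := (e N).symm.toLinearMap) h
    rw [Submodule.map_smul''] at h2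
    exact Submodule.smul_mono le_rfl le_top (by simpa using h2)
  rw [hnat]
  generalize e M w = z
  induction z using TensorProduct.induction_on with
  | zero => simp
  | add a b ha hb => rw [map_add]; exact add_mem ha hb
  | tmul u g =>
    rw [LinearMap.rTensor_tmul]
    have hu := range_pullback_le f x a I ha ⟨u, rfl⟩
    have h2 := Submodule.mem_map_of_mem (f := (TensorProduct.mk (X.presheaf.stalk x)
      ((P N).presheaf.stalk x) (F.presheaf.stalk x)).flip g) hu
    rw [Submodule.map_smul''] at h2
    exact Submodule.smul_mono le_rfl le_top h2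

theorem smul_fam_eq_zero {M : S.Modules} {c : S.presheaf.stalk (f.base x)}
    (hc : ∀ v : M.presheaf.stalk (f.base x), c • v = 0) (w : ((fam f F).obj M).presheaf.stalk x) :
    (f.stalkMap x).hom c • w = 0 := by
  let e : ((fam f F).obj M).presheaf.stalk x ≃ₗ[X.presheaf.stalk x]
      ((Scheme.Modules.pullback f).obj M).presheaf.stalk x ⊗[X.presheaf.stalk x] F.presheaf.stalk x :=
    ((H16Derived.TorTest.tensorStalkIso x F).app ((Scheme.Modules.pullback f).obj M)).toLinearEquiv
  refine e.injective ?_
  rw [map_smul, map_zero]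
  have hpull : ∀ u : ((Scheme.Modules.pullback f).obj M).presheaf.stalk x, (f.stalkMap x).hom c • u = 0 := by
    intro u
    obtain ⟨z, rfl⟩ := (pullStalkLin_bijective f M x).2 u
    induction z using TensorProduct.induction_on with
    | zero => simp
    | add a b ha hb => rw [map_add, smul_add, ha, hb, add_zero]
    | tmul r m => rw [pullStalkLin_tmul, smul_comm, ← pullStalk_smul, hc, map_zero, smul_zero]
  have key : ∀ z : ((Scheme.Modules.pullback f).obj M).presheaf.stalk x ⊗[X.presheaf.stalk x] F.presheaf.stalk x,
      (f.stalkMap x).hom c • z = 0 := by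
    intro z
    induction z using TensorProduct.induction_on with
    | zero => simp
    | add a b ha hb => rw [smul_add, ha, hb, add_zero]
    | tmul u g => rw [TensorProduct.smul_tmul', hpull, TensorProduct.zero_tmul]
  exact key _

/-- Pullback of the functor. -/
def pullFamIso {X' T : Scheme.{u}} {g : X' ⟶ X} {p : X' ⟶ T} {t : T ⟶ S} (w : g ≫ f = p ≫ t) :
    fam f F ⋙ Scheme.Modules.pullback g ≅
      Scheme.Modules.pullback t ⋙ fam p ((Scheme.Modules.pullback g).obj F) :=
  Functor.associator _ _ _ ≪≫
    Functor.isoWhiskerLeft _ (H16Derived.RelTensor.pullTensorRightIso g F) ≪≫ (Functor.associator _ _ _).symm ≪≫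
    Functor.isoWhiskerRight (Scheme.Modules.pullbackComp g f ≪≫ Scheme.Modules.pullbackCongr w ≪≫
      (Scheme.Modules.pullbackComp p t).symm) _ ≪≫ Functor.associator _ _ _

end Groth.Agent.H10Coh.FamHom
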