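import Groth.Agent.H10Coh.FamHom.Fibre
import Groth.Agent.H8Props.FlatLocus.Sheaf
import Groth.Agent.H10Coh.Support
import Mathlib.RingTheory.HopkinsLevitzki
import Mathlib.AlgebraicGeometry.AlgClosed.Basic

/-!
# Homomorphisms of flat families detected on a section
-/

set_option autoImplicit false
set_option linter.style.haveILetI false
set_option linter.unusedSectionVars false
set_option backward.isDefEq.respectTransparency.types false

noncomputable section

universe u

open CategoryTheory CategoryTheory.Limits AlgebraicGeometry Opposite TopologicalSpace TensorProduct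

namespace Groth.Agent.H10Coh.FamHom

open Groth.Agent.H06Mod Groth.Agent.H16Derived.KFlat.Stalk IsLocalRing

theorem isFiniteLength_quotient_pow (A : Type u) [CommRing A] [IsLocalRing A] [IsNoetherianRing A] (n : ℕ) :
    IsFiniteLength A (A ⧸ maximalIdeal A ^ (n + 1)) := by
  rw [isFiniteLength_iff_isNoetherian_isArtinian]
  refine ⟨inferInstance, ?_⟩
  haveI : Nontrivial (A ⧸ maximalIdeal A ^ (n + 1)) := Ideal.Quotient.nontrivial_iff.2
    (ne_top_of_le_ne_top (maximalIdeal.isMaximal A).ne_top (Ideal.pow_le_self (by omega)))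
  haveI : IsLocalRing (A ⧸ maximalIdeal A ^ (n + 1)) :=
    IsLocalRing.of_surjective' _ Ideal.Quotient.mk_surjective
  haveI : IsArtinianRing (A ⧸ maximalIdeal A ^ (n + 1)) := by
    rw [isArtinianRing_iff_isNilpotent_maximalIdeal]
    refine ⟨n + 1, ?_⟩
    rw [← IsLocalRing.map_maximalIdeal_of_surjective _ Ideal.Quotient.mk_surjective, ← Ideal.map_pow,
      Ideal.map_quotient_self]
    rfl
  exact isArtinian_of_surjective_algebraMap (R := A ⧸ maximalIdeal A ^ (n + 1)) (M := A ⧸ maximalIdeal A ^ (n + 1))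
    Ideal.Quotient.mk_surjective

theorem isFlatAt_pullback {T X : Scheme.{u}} (g : T ⟶ X) (M : X.Modules) (z : T)
    (hM : FlatMod.IsFlatAt M (g.base z)) : FlatMod.IsFlatAt ((Scheme.Modules.pullback g).obj M) z := by
  letI := H06Mod.stalkAlgebra g z
  haveI : Module.Flat (X.presheaf.stalk (g.base z)) (M.presheaf.stalk (g.base z)) := hM
  exact Module.Flat.of_linearEquiv (H06Mod.pullStalkEquiv g M z).symm

variable {k : Type u} [Field k] [IsAlgClosed k] {X S : Scheme.{u}} [IsLocallyNoetherian S] {f : X ⟶ S}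
  [IsProper f] (sS : S ⟶ Spec (CommRingCat.of k)) [LocallyOfFiniteType sS] [IsSeparated sS]
  (ξ : S ⟶ X) (hξ : ξ ≫ f = 𝟙 S) {E F : X.Modules}

include f in
theorem isFinLocFree_pullback_section (hF : Coh.IsCoh F)
    (hloc : ∀ t : Spec (CommRingCat.of k) ⟶ S, t ≫ sS = 𝟙 _ → ∀ x ∈ Set.range (t ≫ ξ).base,
      ∃ U : X.Opens, x ∈ U ∧ FlatMod.IsFinLocFree (F.restrict U.ι)) :
    FlatMod.IsFinLocFree ((Scheme.Modules.pullback ξ).obj F) := by
  haveI : IsLocallyNoetherian X := LocallyOfFiniteType.isLocallyNoetherian f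
  haveI : JacobsonSpace S := LocallyOfFiniteType.jacobsonSpace sS
  let O := {x : X | FlatMod.IsFlatOverAt (𝟙 X) F x}
  have hO : IsOpen O := H8Props.FlatLocus.isOpen_setOf_isFlatOverAt (𝟙 X) F (H10Coh.isFP_of_isCoh F hF)
  have hall : ∀ s : S, ξ.base s ∈ O := by
    by_contra hne
    push Not at hne
    obtain ⟨s, hs, hcl⟩ := nonempty_inter_closedPoints (Z := (ξ.base ⁻¹' O)ᶜ) hne
      (hO.preimage ξ.continuous).isClosed_compl.isLocallyClosed
    obtain ⟨U, hsU, hU⟩ := hloc (pointOfClosedPoint sS s hcl) (pointOfClosedPoint_comp sS s hcl) (ξ.base s)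
      ⟨IsLocalRing.closedPoint k, by
        rw [Scheme.Hom.comp_apply, pointOfClosedPoint_apply]⟩
    exact hs ((H8Props.FinLocFree.isFlatOverAt_id_iff F _).2 (H16Derived.KFlat.Stalk.isFlatAt_of_restrict U.ι
      ⟨ξ.base s, hsU⟩ (H8Props.FinLocFree.isFlatAt_of_isFinLocFree _ hU _)))
  have hq := H29Fitt.isQCoh_pullback ξ F hF.1
  have hfp := H10Coh.isFP_of_isCoh _ (X := S) ⟨hq, H29Fitt.isFT_pullback ξ F hF.1 hF.2⟩
  exact H8Props.FinLocFree.isFinLocFree_of_flat_of_isFP _ hq
    (fun s => isFlatAt_pullback ξ F s ((H8Props.FinLocFree.isFlatOverAt_id_iff F _).1 (hall s))) hfp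

include hξ in
theorem stalk_eq_zero (hF : Coh.IsCoh F) (hfl : FlatMod.IsFlatOver f F)
    (hF' : FlatMod.IsFinLocFree ((Scheme.Modules.pullback ξ).obj F))
    (t : Spec (CommRingCat.of k) ⟶ S) (ht : t ≫ sS = 𝟙 _) {Xt : Scheme.{u}} {g : Xt ⟶ X}
    {p : Xt ⟶ Spec (CommRingCat.of k)} (h : IsPullback g p f t) (ξt : Spec (CommRingCat.of k) ⟶ Xt)
    (hξt : ξt ≫ g = t ≫ ξ)
    (hinj : ∀ ψ : (Scheme.Modules.pullback g).obj E ⟶ (Scheme.Modules.pullback g).obj F,
      (Scheme.Modules.pullback ξt).map ψ = 0 → ψ = 0)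
    (φ : E ⟶ F) (hφ : (Scheme.Modules.pullback ξ).map φ = 0) (x : X)
    (hx : f.base x = t.base (IsLocalRing.closedPoint k)) (e : E.presheaf.stalk x) : stalkLin φ x e = 0 := by
  haveI : IsLocallyNoetherian X := LocallyOfFiniteType.isLocallyNoetherian f
  haveI : IsClosedImmersion (t ≫ sS) := by rw [ht]; infer_instance
  haveI : IsClosedImmersion t := IsClosedImmersion.of_comp t sS
  haveI := H06Mod.finite_stalk F hF.2 x
  let G := fam f F
  let φ' := φ ≫ (unitIso f F).inv
  have hφ' : (Scheme.Modules.pullback ξ).map φ' = 0 := by rw [Functor.map_comp, hφ, zero_comp]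
  let J : Ideal (X.presheaf.stalk x) := (maximalIdeal (S.presheaf.stalk (f.base x))).map (f.stalkMap x).hom
  have hJ : J ≠ ⊤ := by
    refine ne_top_of_le_ne_top (maximalIdeal.isMaximal _).ne_top ?_
    exact ((local_hom_TFAE (f.stalkMap x).hom).out 0 2).1
      (inferInstance : IsLocalHom (f.stalkMap x).hom)
  have key : ∀ j, stalkLin φ x e ∈ (J ^ (j + 1) • ⊤ : Submodule (X.presheaf.stalk x) (F.presheaf.stalk x)) := by
    intro j
    let σ := LinearEquiv.ofBijective (LinearMap.toSpanSingleton (S.presheaf.stalk (f.base x)) _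
      (H06EGA9.oneStalk (f.base x))) (H06EGA9.bijective_smul_oneStalk (f.base x))
    let A := S.presheaf.stalk (f.base x)
    let ψ₀ : (Coh.structureModule S).presheaf.stalk (f.base x) →ₗ[A] A ⧸ maximalIdeal A ^ (j + 1) :=
      (maximalIdeal A ^ (j + 1) : Submodule A A).mkQ ∘ₗ σ.symm.toLinearMap
    have hker : LinearMap.ker ψ₀ ≤ maximalIdeal A ^ (j + 1) • ⊤ := by
      intro v hv
      rw [← σ.apply_symm_apply v]
      exact Submodule.smul_mem_smul ((Submodule.Quotient.mk_eq_zero _).1 hv) trivial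
    let q := homOfStalk ψ₀
    have hdet := detects_of_finiteLength h hξ ξt hξt sS ht hfl hF' hinj (f.base x) hx.symm
      (A ⧸ maximalIdeal A ^ (j + 1)) (isFiniteLength_quotient_pow A j)
    have h0 : φ' ≫ G.map q = 0 := hdet _ (by rw [Functor.map_comp, hφ', zero_comp])
    haveI : PreservesFiniteLimits G := preservesFiniteLimits_fam f F hfl
    have hex : ((ShortComplex.mk (kernel.ι q) q (kernel.condition q)).map G).Exact :=
      exact_fam f F hfl (ShortComplex.exact_kernel q)
    haveI : Mono ((ShortComplex.mk (kernel.ι q) q (kernel.condition q)).map G).f :=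
      inferInstanceAs (Mono (G.map (kernel.ι q)))
    obtain ⟨ψ, hψ⟩ : ∃ ψ : E ⟶ G.obj (kernel q), ψ ≫ G.map (kernel.ι q) = φ' :=
      ⟨hex.lift φ' h0, hex.lift_f φ' h0⟩
    have hle := range_fam_le f F x (kernel.ι q) (maximalIdeal A ^ (j + 1))
      ((SkyMod.range_stalk_le_ker _ ψ₀ (kernel.ι q) (kernel.condition q)).trans hker)
    have hmem : stalkLin φ' x e ∈ ((maximalIdeal A ^ (j + 1)).map (f.stalkMap x).hom • ⊤ : Submodule (X.presheaf.stalk x) _) := by
      rw [← hψ, H29Omega.stalkLin_comp]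
      exact hle ⟨_, rfl⟩
    rw [Ideal.map_pow] at hmem
    have h2 := Submodule.mem_map_of_mem (f := stalkLin (unitIso f F).hom x) hmem
    rw [Submodule.map_smul'', ← H29Omega.stalkLin_comp] at h2
    rw [show φ' ≫ (unitIso f F).hom = φ by simp [φ']] at h2
    exact Submodule.smul_mono le_rfl le_top h2
  have hmem : stalkLin φ x e ∈ (⨅ i : ℕ, J ^ i • ⊤ : Submodule (X.presheaf.stalk x) (F.presheaf.stalk x)) := by
    rw [Submodule.mem_iInf]
    rintro (_ | i)
    · rw [pow_zero, Ideal.one_eq_top, Submodule.top_smul]; trivial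
    · exact key i
  rw [Ideal.iInf_pow_smul_eq_bot_of_isLocalRing J hJ] at hmem
  exact hmem

include hξ in
theorem eq_zero_of_section (hE : Coh.IsCoh E) (hF : Coh.IsCoh F) (hfl : FlatMod.IsFlatOver f F)
    (hloc : ∀ t : Spec (CommRingCat.of k) ⟶ S, t ≫ sS = 𝟙 _ → ∀ x ∈ Set.range (t ≫ ξ).base,
      ∃ U : X.Opens, x ∈ U ∧ FlatMod.IsFinLocFree (F.restrict U.ι))
    (hinj : ∀ t : Spec (CommRingCat.of k) ⟶ S, t ≫ sS = 𝟙 _ →
      ∀ ψ : (Scheme.Modules.pullback (pullback.fst f (Over.mk t).hom)).obj E ⟶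
        (Scheme.Modules.pullback (pullback.fst f (Over.mk t).hom)).obj F,
      (Scheme.Modules.pullback (PicF.secT f ξ hξ (Over.mk t))).map ψ = 0 → ψ = 0)
    (φ : E ⟶ F) (hφ : (Scheme.Modules.pullback ξ).map φ = 0) : φ = 0 := by
  haveI : IsLocallyNoetherian X := LocallyOfFiniteType.isLocallyNoetherian f
  haveI : JacobsonSpace X := LocallyOfFiniteType.jacobsonSpace (f ≫ sS)
  have hF' := isFinLocFree_pullback_section (f := f) sS ξ hF hloc
  have hclosed : ∀ x : X, IsClosed ({x} : Set X) → ∀ e, stalkLin φ x e = 0 := by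
    intro x hx e
    have hfx : IsClosed ({f.base x} : Set S) := by
      rw [← Set.image_singleton]
      exact f.isClosedMap _ hx
    let t := pointOfClosedPoint sS (f.base x) hfx
    exact stalk_eq_zero sS ξ hξ hF hfl hF' t (pointOfClosedPoint_comp sS _ hfx)
      (IsPullback.of_hasPullback f (Over.mk t).hom) (PicF.secT f ξ hξ (Over.mk t)) (pullback.lift_fst _ _ _)
      (hinj t (pointOfClosedPoint_comp sS _ hfx)) φ hφ x (pointOfClosedPoint_apply sS _ hfx _).symm e
  have hI : Coh.IsCoh (Abelian.image φ) := H10Coh.isCoh_kernel (cokernel.π φ) hF (H10Coh.isCoh_cokernel φ hE.1 hF).1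
  have hempty : CohB1.support (Abelian.image φ) = ∅ := by
    by_contra hne
    obtain ⟨x, hx, hxcl⟩ := nonempty_inter_closedPoints (Set.nonempty_iff_ne_empty.2 hne)
      (H10Coh.isClosed_support _ hI.2).isLocallyClosed
    refine hx (subsingleton_of_forall_eq 0 fun v => ?_)
    haveI : Mono ((DerSch.stalkFunctor X x).map (Abelian.image.ι φ)) := inferInstance
    have hinj' : Function.Injective (stalkLin (Abelian.image.ι φ) x) :=
      (ModuleCat.mono_iff_injective ((DerSch.stalkFunctor X x).map (Abelian.image.ι φ))).1 inferInstance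
    haveI : Epi ((DerSch.stalkFunctor X x).map (Abelian.factorThruImage φ)) := inferInstance
    obtain ⟨e, rfl⟩ := (ModuleCat.epi_iff_surjective ((DerSch.stalkFunctor X x).map (Abelian.factorThruImage φ))).1
      inferInstance v
    refine hinj' ?_
    rw [map_zero]
    show stalkLin (Abelian.image.ι φ) x (stalkLin (Abelian.factorThruImage φ) x e) = 0
    rw [← H29Omega.stalkLin_comp, Abelian.image.fac, hclosed x hxcl e]
  refine H29Omega.eq_zero_of_stalkLin φ fun x e => ?_
  have hsub : Subsingleton ((Abelian.image φ).presheaf.stalk x) := not_nontrivial_iff_subsingleton.1 fun hn =>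
    (Set.eq_empty_iff_forall_notMem.1 hempty x) (fun hs => not_subsingleton _ hs)
  rw [← Abelian.image.fac φ, H29Omega.stalkLin_comp,
    Subsingleton.elim (stalkLin (Abelian.factorThruImage φ) x e) 0, map_zero]

end Groth.Agent.H10Coh.FamHom
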